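/-
Two quadratic operators generating a finite group of odd order act unipotently.

* `exists_common_fixed`
* `sub_one_pow_eq_zero` : every element of the generated group is unipotent
-/
import Cfsg.Agent.Lib.GL2Odd.Main

set_option autoImplicit false

namespace Cfsg.Agent.OddStable

open Module Matrix

variable {k : Type*} [Field k] [IsAlgClosed k] (p : ℕ) [Fact p.Prime] [CharP k p]
variable {Y : Type*} [Group Y] [Finite Y]

theorem exists_common_fixed (hp : p ≠ 2) (hodd : Odd (Nat.card Y)) {W : Type*} [AddCommGroup W]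
    [Module k W] [FiniteDimensional k W] [Nontrivial W] (ρ : Representation k Y W) (a b : Y)
    (ha : (ρ a - 1) * (ρ a - 1) = 0) (hb : (ρ b - 1) * (ρ b - 1) = 0) :
    ∃ w : W, w ≠ 0 ∧ ρ a w = w ∧ ρ b w = w := by
  classical
  have hK : ∃ v : W, v ≠ 0 ∧ (ρ a - 1) v = 0 := by
    by_contra! h
    obtain ⟨v, hv⟩ := exists_ne (0 : W)
    refine h _ (h v hv) ?_
    rw [← Module.End.mul_apply, ha, LinearMap.zero_apply]
  set K := LinearMap.ker (ρ a - 1) with hKdef
  have : Nontrivial K := by
    obtain ⟨v, hv, hv'⟩ := hK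
    exact ⟨⟨v, hv'⟩, 0, fun h => hv (congrArg Subtype.val h)⟩
  let T : K →ₗ[k] K := LinearMap.restrict ((ρ a - 1) * (ρ b - 1)) (p := K) (q := K) (fun v _ => by
    rw [hKdef, LinearMap.mem_ker, ← Module.End.mul_apply, ← mul_assoc, ha, zero_mul,
      LinearMap.zero_apply])
  obtain ⟨lam, hlam⟩ := Module.End.exists_eigenvalue T
  obtain ⟨v, hv, hv0⟩ := hlam.exists_hasEigenvector
  have hv0' : (v : W) ≠ 0 := fun h => hv0 (Subtype.ext h)
  have hav : ρ a (v : W) = v := by
    have h : (ρ a - 1) (v : W) = 0 := v.2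
    rwa [LinearMap.sub_apply, Module.End.one_apply, sub_eq_zero] at h
  have hT : (ρ a - 1) ((ρ b - 1) (v : W)) = lam • (v : W) :=
    congrArg Subtype.val (Module.End.mem_eigenspace_iff.1 hv)
  set w := (ρ b - 1) (v : W) with hw
  by_cases hw0 : w = 0
  · refine ⟨v, hv0', hav, ?_⟩
    rwa [hw, LinearMap.sub_apply, Module.End.one_apply, sub_eq_zero] at hw0
  have hbw : ρ b w = w := by
    have h : (ρ b - 1) w = 0 := by rw [hw, ← Module.End.mul_apply, hb, LinearMap.zero_apply]
    rwa [LinearMap.sub_apply, Module.End.one_apply, sub_eq_zero] at h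
  have haw : ρ a w = w + lam • (v : W) := by
    rw [LinearMap.sub_apply, Module.End.one_apply, sub_eq_iff_eq_add] at hT
    rw [hT, add_comm]
  have hbv : ρ b (v : W) = v + w := by
    rw [hw, LinearMap.sub_apply, Module.End.one_apply]; abel
  by_cases hl : lam = 0
  · exact ⟨w, hw0, by rw [haw, hl, zero_smul, add_zero], hbw⟩
  exfalso
  have hind : LinearIndependent k ![(v : W), w] := by
    rw [linearIndependent_fin2]
    refine ⟨hw0, fun c hc => ?_⟩
    change c • w = (v : W) at hc
    have h1 : ρ b (v : W) = v := by rw [← hc, map_smul, hbw]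
    rw [hbv, add_eq_left] at h1
    exact hw0 h1
  let ι : (Fin 2 → k) →ₗ[k] W := Fintype.linearCombination k ![(v : W), w]
  have hι : Function.Injective ι := Fintype.linearIndependent_iff'.1 hind |> LinearMap.ker_eq_bot.1
  have hιv : ∀ c : Fin 2 → k, ι c = c 0 • (v : W) + c 1 • w := fun c => by
    simp [ι, Fintype.linearCombination_apply, Fin.sum_univ_two]
  let S : Subgroup (Y × GL (Fin 2) k) :=
    { carrier := {x | ∀ c : Fin 2 → k, ρ x.1 (ι c) = ι ((x.2 : Matrix (Fin 2) (Fin 2) k).mulVec c)}
      one_mem' := fun c => by simp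
      mul_mem' := fun {x y} hx hy c => by
        rw [Prod.fst_mul, map_mul, Module.End.mul_apply, hy, hx, Matrix.mulVec_mulVec]
        rfl
      inv_mem' := fun {x} hx c => by
        have h := hx (((x.2⁻¹ : GL (Fin 2) k) : Matrix (Fin 2) (Fin 2) k).mulVec c)
        rw [Matrix.mulVec_mulVec, ← Units.val_mul, mul_inv_cancel, Units.val_one,
          Matrix.one_mulVec] at h
        show ρ x.1⁻¹ (ι c) = _
        rw [← h, ← Module.End.mul_apply, ← map_mul, inv_mul_cancel, map_one, Module.End.one_apply]
        rfl }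
  have hinj : Function.Injective ((MonoidHom.fst Y (GL (Fin 2) k)).comp S.subtype) := by
    rintro ⟨⟨y, M⟩, hx⟩ ⟨⟨y', M'⟩, hx'⟩ h
    change y = y' at h
    subst h
    refine Subtype.ext (Prod.ext rfl (Units.ext (Matrix.ext_of_mulVec_single fun i => hι ?_)))
    exact (hx _).symm.trans (hx' _)
  have : Finite S := Finite.of_injective _ hinj
  have hSodd : Odd (Nat.card S) := hodd.of_dvd_nat (Subgroup.card_dvd_of_injective _ hinj)
  set H := ((MonoidHom.snd Y (GL (Fin 2) k)).comp S.subtype).range with hH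
  have : Finite H :=
    Finite.of_surjective _ ((MonoidHom.snd Y (GL (Fin 2) k)).comp S.subtype).rangeRestrict_surjective
  have hHodd : Odd (Nat.card H) := hSodd.of_dvd_nat (Subgroup.card_range_dvd _)
  let A : GL (Fin 2) k := GeneralLinearGroup.mkOfDetNeZero !![1, lam; 0, 1] (by simp)
  let B : GL (Fin 2) k := GeneralLinearGroup.mkOfDetNeZero !![1, 0; 1, 1] (by simp)
  have hA : A ∈ H := by
    refine ⟨⟨(a, A), fun c => ?_⟩, rfl⟩
    simp [A, GeneralLinearGroup.mkOfDetNeZero, hιv, map_add, map_smul, hav, haw, Matrix.mulVec,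
      dotProduct, Fin.sum_univ_two, smul_add, smul_smul, add_smul]
    rw [mul_comm (c 1) lam]
    abel
  have hB : B ∈ H := by
    refine ⟨⟨(b, B), fun c => ?_⟩, rfl⟩
    simp [B, GeneralLinearGroup.mkOfDetNeZero, hιv, map_add, map_smul, hbv, hbw, Matrix.mulVec,
      dotProduct, Fin.sum_univ_two, smul_add, smul_smul, add_smul]
    abel
  have hBp : B ^ p = 1 := by
    refine Units.ext ?_
    rw [Units.val_pow_eq_pow_val, Units.val_one, ← sub_eq_zero]
    have h2 : ((B : Matrix (Fin 2) (Fin 2) k) - 1) ^ 2 = 0 := by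
      ext i j
      fin_cases i <;> fin_cases j <;>
        simp [B, GeneralLinearGroup.mkOfDetNeZero, pow_two, Matrix.mul_apply, Fin.sum_univ_two]
    have hp2 : 2 ≤ p := (Fact.out : p.Prime).two_le
    have h3 : ((B : Matrix (Fin 2) (Fin 2) k) - 1) ^ p = 0 := by
      rw [show p = 2 + (p - 2) by omega, pow_add, h2, zero_mul]
    rwa [sub_pow_char_of_commute p (Commute.one_right _), one_pow] at h3
  have hBne : B ≠ 1 := fun h => by
    have := congrArg (fun M : GL (Fin 2) k => (M : Matrix (Fin 2) (Fin 2) k) 1 0) h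
    simp [B, GeneralLinearGroup.mkOfDetNeZero] at this
  have hdvd : p ∣ Nat.card H := by
    have := orderOf_dvd_natCard (⟨B, hB⟩ : H)
    rwa [Subgroup.orderOf_mk, orderOf_eq_prime hBp hBne] at this
  obtain ⟨u, hu0, hu⟩ := GL2Odd.exists_fixed_line p hp H hHodd hdvd
  obtain ⟨α, hα⟩ := Submodule.mem_span_singleton.1 (hu A hA)
  obtain ⟨β, hβ⟩ := Submodule.mem_span_singleton.1 (hu B hB)
  have a0 := congrFun hα 0
  have a1 := congrFun hα 1
  have b0 := congrFun hβ 0
  have b1 := congrFun hβ 1
  simp [A, B, GeneralLinearGroup.mkOfDetNeZero, Matrix.mulVec, dotProduct, Fin.sum_univ_two]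
    at a0 a1 b0 b1
  have hu1 : u 1 = 0 := by
    by_contra hne
    have : α = 1 := mul_right_cancel₀ hne (by rw [a1, one_mul])
    rw [this, one_mul] at a0
    exact hne ((mul_eq_zero.1 (by linear_combination -a0 : lam * u 1 = 0)).resolve_left hl)
  rw [hu1, mul_zero, add_zero] at b1
  exact hu0 (funext fun i => by fin_cases i <;> simp [hu1, ← b1])

theorem sub_one_pow_eq_zero (hp : p ≠ 2) (hodd : Odd (Nat.card Y)) (a b : Y)
    (hgen : Subgroup.closure ({a, b} : Set Y) = ⊤) :
    ∀ (n : ℕ) (W : Type*) [AddCommGroup W] [Module k W] [FiniteDimensional k W],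
      finrank k W = n → ∀ ρ : Representation k Y W,
        (ρ a - 1) * (ρ a - 1) = 0 → (ρ b - 1) * (ρ b - 1) = 0 → ∀ y : Y, (ρ y - 1) ^ n = 0 := by
  intro n
  induction n with
  | zero =>
    intro W _ _ _ hW ρ _ _ y
    have : Subsingleton W := Module.finrank_zero_iff.1 hW
    exact Subsingleton.elim _ _
  | succ n ih =>
    intro W _ _ _ hW ρ ha hb y
    have : Nontrivial W := Module.nontrivial_of_finrank_pos (R := k) (by omega)
    obtain ⟨w, hw0, haw, hbw⟩ := exists_common_fixed p hp hodd ρ a b ha hb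
    have hall : ∀ y : Y, ρ y w = w := fun y => by
      have hy : y ∈ Subgroup.closure ({a, b} : Set Y) := hgen ▸ Subgroup.mem_top y
      induction hy using Subgroup.closure_induction with
      | mem x hx => rcases hx with rfl | rfl <;> assumption
      | one => simp
      | mul x z _ _ hx hz => rw [map_mul, Module.End.mul_apply, hz, hx]
      | inv x _ hx =>
        conv_lhs => rw [← hx, ← Module.End.mul_apply, ← map_mul, inv_mul_cancel, map_one,
          Module.End.one_apply]
    set L : Submodule k W := k ∙ w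
    have hL : ∀ y : Y, L ≤ L.comap (ρ y) := fun y => by
      rw [Submodule.span_singleton_le_iff_mem, Submodule.mem_comap, hall y]
      exact Submodule.mem_span_singleton_self w
    let σ : Representation k Y (W ⧸ L) :=
      { toFun := fun y => L.mapQ L (ρ y) (hL y)
        map_one' := by
          refine Submodule.linearMap_qext _ (LinearMap.ext fun x => ?_)
          simp
        map_mul' := fun y z => by
          refine Submodule.linearMap_qext _ (LinearMap.ext fun x => ?_)
          simp }
    have hσ : ∀ (y : Y) (x : W), (σ y - 1) (Submodule.Quotient.mk x) =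
        Submodule.Quotient.mk ((ρ y - 1) x) := fun y x => by
      simp [σ, Submodule.Quotient.mk_sub]
    have hsq : ∀ y : Y, (ρ y - 1) * (ρ y - 1) = 0 → (σ y - 1) * (σ y - 1) = 0 := fun y hy => by
      refine Submodule.linearMap_qext _ (LinearMap.ext fun x => ?_)
      show (σ y - 1) ((σ y - 1) (Submodule.Quotient.mk x)) = 0
      rw [hσ, hσ, ← Module.End.mul_apply, hy]
      simp
    have hrank : finrank k (W ⧸ L) = n := by
      have := Submodule.finrank_quotient_add_finrank L
      rw [finrank_span_singleton hw0, hW] at this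
      omega
    have h := ih (W ⧸ L) hrank σ (hsq a ha) (hsq b hb) y
    have hpow : ∀ (m : ℕ) (x : W), ((σ y - 1) ^ m) (Submodule.Quotient.mk x) =
        Submodule.Quotient.mk (((ρ y - 1) ^ m) x) := fun m => by
      induction m with
      | zero => simp
      | succ m ihm =>
        intro x
        rw [pow_succ, Module.End.mul_apply, hσ, ihm, pow_succ, Module.End.mul_apply]
    refine LinearMap.ext fun x => ?_
    have hx : ((ρ y - 1) ^ n) x ∈ L := by
      rw [← Submodule.Quotient.mk_eq_zero L, ← hpow, h, LinearMap.zero_apply]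
    obtain ⟨c, hc⟩ := Submodule.mem_span_singleton.1 hx
    rw [pow_succ', Module.End.mul_apply, ← hc]
    simp [hall y]

end Cfsg.Agent.OddStable
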