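/-
p-stability of groups of odd order (no solvability needed).

* `QuadOn a P` : `a` commutes with every `a * v * a⁻¹ * v⁻¹`, `v ∈ P` (that is, `[P, a, a] = 1`)
* `quadOn_of_commutator` : from `⁅⁅P, A⁆, A⁆ = ⊥`
* `mem_centralizer_of_pair` : a `p'`-element of the group generated by two quadratic elements
  centralises a normal `p`-subgroup
* `mem_pCore_quotient_centralizer` : p-stability for a normal `p`-subgroup
* `mem_pCore_normalizer_quotient` : p-stability inside `N(P) / C(P)`
* `isNormalizerPStable_of_odd`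
-/
import Cfsg.Agent.Lib.OddStable.Linear
import Cfsg.Agent.Lib.Involution.BaerSuzuki
import Cfsg.Agent.Lib.Solvable.Basic
import Cfsg.Agent.Lib.Cores.Subnormal

set_option autoImplicit false

namespace Cfsg.Agent.OddStable

open Cfsg
open scoped commutatorElement

variable {G : Type*} [Group G]

/-- `a` acts quadratically on `P`. -/
def QuadOn (a : G) (P : Subgroup G) : Prop := ∀ v ∈ P, Commute a (a * v * a⁻¹ * v⁻¹)

theorem quadOn_of_commutator {P A : Subgroup G} (h : ⁅⁅P, A⁆, A⁆ = ⊥) {a : G} (ha : a ∈ A) :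
    QuadOn a P := by
  intro v hv
  have hmem : a * v * a⁻¹ * v⁻¹ ∈ ⁅P, A⁆ := by
    rw [Subgroup.commutator_comm]; exact Subgroup.commutator_mem_commutator ha hv
  have := Subgroup.mem_centralizer_iff.1
    (Subgroup.commutator_eq_bot_iff_le_centralizer.1 h hmem) a ha
  exact this

theorem quadOn_conj {a g : G} {P : Subgroup G} [P.Normal] (h : QuadOn a P) :
    QuadOn (g * a * g⁻¹) P := by
  intro v hv
  have h1 := (h (g⁻¹ * v * g) (by simpa using Subgroup.Normal.conj_mem ‹_› v hv g⁻¹)).map
    (MulAut.conj g).toMonoidHom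
  simp only [MulEquiv.coe_toMonoidHom, MulAut.conj_apply] at h1
  have e : g * (a * (g⁻¹ * v * g) * a⁻¹ * (g⁻¹ * v * g)⁻¹) * g⁻¹ =
      g * a * g⁻¹ * v * (g * a * g⁻¹)⁻¹ * v⁻¹ := by group
  rwa [e] at h1

theorem rep_eq_one_of_pair {p : ℕ} [Fact p.Prime] (hp : p ≠ 2) {Y : Type*} [Group Y] [Finite Y]
    (hodd : Odd (Nat.card Y)) {M : Type*} [AddCommGroup M] [Module (ZMod p) M] [Finite M]
    (ρ0 : Representation (ZMod p) Y M) (a b : Y) (hgen : Subgroup.closure ({a, b} : Set Y) = ⊤)
    (ha : (ρ0 a - 1) * (ρ0 a - 1) = 0) (hb : (ρ0 b - 1) * (ρ0 b - 1) = 0) {y : Y}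
    (hcop : (orderOf y).Coprime p) : ρ0 y = 1 := by
  classical
  let k := AlgebraicClosure (ZMod p)
  let d := Module.finrank (ZMod p) M
  let bV := Module.finBasis (ZMod p) M
  let Φ : Module.End (ZMod p) M →+* Module.End k (Fin d → k) :=
    (Matrix.toLinAlgEquiv' (R := k) (n := Fin d)).toRingEquiv.toRingHom.comp
      ((algebraMap (ZMod p) k).mapMatrix.comp (LinearMap.toMatrixAlgEquiv bV).toRingEquiv.toRingHom)
  have hΦ : Function.Injective Φ := fun f g h =>
    (LinearMap.toMatrixAlgEquiv bV).injective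
      (Matrix.map_injective (algebraMap (ZMod p) k).injective
        ((Matrix.toLinAlgEquiv' (R := k) (n := Fin d)).injective h))
  have : CharP k p := inferInstance
  have hnil : (ρ0 y - 1) ^ d = 0 := by
    apply hΦ
    rw [map_zero, map_pow, map_sub, map_one]
    refine sub_one_pow_eq_zero p hp hodd a b hgen d (Fin d → k) (Module.finrank_fin_fun k)
      (Φ.toMonoidHom.comp ρ0) ?_ ?_ y
    · show (Φ (ρ0 a) - 1) * (Φ (ρ0 a) - 1) = 0
      rw [← map_one Φ, ← map_sub, ← map_mul, ha, map_zero]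
    · show (Φ (ρ0 b) - 1) * (Φ (ρ0 b) - 1) = 0
      rw [← map_one Φ, ← map_sub, ← map_mul, hb, map_zero]
  set X := ρ0 y with hX
  set m := orderOf y
  have hXm : X ^ m = 1 := by rw [hX, ← map_pow, pow_orderOf_eq_one, map_one]
  have hgeom : (X - 1) * ∑ i ∈ Finset.range m, X ^ i = 0 := by rw [mul_geom_sum, hXm, sub_self]
  have hm : IsUnit ((m : ℕ) : Module.End (ZMod p) M) := by
    have h1 : IsUnit ((m : ℕ) : ZMod p) := (ZMod.isUnit_iff_coprime m p).2 hcop
    simpa using h1.map (algebraMap (ZMod p) (Module.End (ZMod p) M))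
  have hnn : IsNilpotent ((∑ i ∈ Finset.range m, X ^ i) - (m : ℕ)) := by
    have h2 : (∑ i ∈ Finset.range m, X ^ i) - ((m : ℕ) : Module.End (ZMod p) M) =
        (X - 1) * ∑ i ∈ Finset.range m, ∑ j ∈ Finset.range i, X ^ j := by
      rw [Finset.mul_sum]
      simp only [mul_geom_sum]
      rw [Finset.sum_sub_distrib]
      simp
    rw [h2]
    refine Commute.isNilpotent_mul_right ?_ ⟨d, hnil⟩
    exact Commute.sum_right _ _ _ fun i _ => Commute.sum_right _ _ _ fun j _ =>
      ((Commute.refl X).pow_right j).sub_left (Commute.one_left _)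
  have hu : IsUnit (∑ i ∈ Finset.range m, X ^ i) := by
    have := hnn.isUnit_add_left_of_commute hm (Nat.cast_commute m _).symm
    rwa [add_sub_cancel] at this
  exact sub_eq_zero.1 (hu.mul_left_eq_zero.1 hgeom)

theorem aut_eq_one_of_pair {p : ℕ} [Fact p.Prime] (hp : p ≠ 2) {Y : Type*} [Group Y] [Finite Y]
    (hodd : Odd (Nat.card Y)) {W : Type*} [CommGroup W] [Finite W] (hW : ∀ w : W, w ^ p = 1)
    (φ : Y →* MulAut W) (a b : Y) (hgen : Subgroup.closure ({a, b} : Set Y) = ⊤)
    (ha : ∀ w, φ a (φ a w * w⁻¹) = φ a w * w⁻¹) (hb : ∀ w, φ b (φ b w * w⁻¹) = φ b w * w⁻¹)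
    {y : Y} (hcop : (orderOf y).Coprime p) : φ y = 1 := by
  letI : Module (ZMod p) (Additive W) :=
    AddCommGroup.zmodModule (n := p) fun v => congrArg Additive.ofMul (hW (Additive.toMul v))
  let ρ0 : Representation (ZMod p) Y (Additive W) :=
    { toFun := fun u => (φ u).toMonoidHom.toAdditive.toZModLinearMap p
      map_one' := LinearMap.ext fun v => by simp
      map_mul' := fun u w => LinearMap.ext fun v => by simp }
  have happ : ∀ u v, ρ0 u v = Additive.ofMul (φ u (Additive.toMul v)) := fun u v => rfl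
  have hsq : ∀ u, (∀ w, φ u (φ u w * w⁻¹) = φ u w * w⁻¹) → (ρ0 u - 1) * (ρ0 u - 1) = 0 := fun u hu => by
    refine LinearMap.ext fun v => ?_
    have key : ρ0 u (ρ0 u v - v) = ρ0 u v - v := by
      apply Additive.toMul.injective
      rw [happ]
      simp only [toMul_sub, toMul_ofMul, happ, div_eq_mul_inv]
      exact hu _
    rw [Module.End.mul_apply, LinearMap.sub_apply, LinearMap.sub_apply, Module.End.one_apply,
      Module.End.one_apply, key, sub_self, LinearMap.zero_apply]
  have hX := rep_eq_one_of_pair hp hodd ρ0 a b hgen (hsq a ha) (hsq b hb) hcop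
  refine MulEquiv.ext fun w => ?_
  have := happ y (Additive.ofMul w)
  rw [hX, Module.End.one_apply] at this
  exact (congrArg Additive.toMul this).symm

theorem mem_centralizer_of_pair_elementary [Finite G] (hodd : Odd (Nat.card G)) {p : ℕ} [Fact p.Prime]
    (hp : p ≠ 2) {V : Subgroup G} [V.Normal] (hV : IsElementaryAbelian p V) {a b y : G}
    (ha : QuadOn a V) (hb : QuadOn b V) (hy : y ∈ Subgroup.closure ({a, b} : Set G))
    (hcop : (orderOf y).Coprime p) : y ∈ Subgroup.centralizer (V : Set G) := by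
  classical
  letI instV : CommGroup V := { mul_comm := fun u v => hV.1.1.1 u v }
  set Y := Subgroup.closure ({a, b} : Set G) with hY
  have haY : a ∈ Y := Subgroup.subset_closure (Set.mem_insert _ _)
  have hbY : b ∈ Y := Subgroup.subset_closure (Set.mem_insert_of_mem _ rfl)
  have hgen : Subgroup.closure ({⟨a, haY⟩, ⟨b, hbY⟩} : Set Y) = ⊤ := by
    rw [eq_top_iff, ← Subgroup.map_le_map_iff_of_injective Y.subtype_injective,
      MonoidHom.map_closure, Set.image_pair, Subgroup.subtype_apply, Subgroup.subtype_apply,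
      ← MonoidHom.range_eq_map, Subgroup.range_subtype]
  have hX := aut_eq_one_of_pair hp (hodd.of_dvd_nat (Subgroup.card_subgroup_dvd_card Y))
    (W := V) (fun w => Subtype.ext (by simpa using hV.2 _ w.2))
    ((MulAut.conjNormal (H := V)).comp Y.subtype) ⟨a, haY⟩ ⟨b, hbY⟩ hgen
    (fun w => Subtype.ext (by
      simp only [MonoidHom.comp_apply, Subgroup.subtype_apply, MulAut.conjNormal_apply,
        Subgroup.coe_mul, Subgroup.coe_inv]
      rw [(ha _ w.2).eq, mul_inv_cancel_right]))
    (fun w => Subtype.ext (by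
      simp only [MonoidHom.comp_apply, Subgroup.subtype_apply, MulAut.conjNormal_apply,
        Subgroup.coe_mul, Subgroup.coe_inv]
      rw [(hb _ w.2).eq, mul_inv_cancel_right]))
    (y := ⟨y, hy⟩) (by rwa [← Subgroup.orderOf_coe])
  refine Subgroup.mem_centralizer_iff.2 fun v hv => ?_
  have := congrArg (fun f : MulAut V => ((f ⟨v, hv⟩ : V) : G)) hX
  simp only [MonoidHom.comp_apply, Subgroup.subtype_apply, MulAut.conjNormal_apply,
    MulAut.one_apply] at this
  exact (mul_inv_eq_iff_eq_mul.1 this).symm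

theorem mem_centralizer_of_pair : ∀ {G : Type*} [Group G] [Finite G] (_ : Odd (Nat.card G))
    {p : ℕ} [Fact p.Prime] (_ : p ≠ 2) {P : Subgroup G} [P.Normal] (_ : IsPGroup p P) {a b y : G}
    (_ : QuadOn a P) (_ : QuadOn b P) (_ : y ∈ Subgroup.closure ({a, b} : Set G))
    (_ : (orderOf y).Coprime p), y ∈ Subgroup.centralizer (P : Set G) := by
  intro G _ _ hodd p _ hp P hPn hP a b y ha hb hy hcop
  induction hn : Nat.card P using Nat.strong_induction_on generalizing G with
  | _ n ih =>
    rcases eq_or_ne P ⊥ with rfl | hne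
    · refine Subgroup.mem_centralizer_iff.2 fun x hx => ?_
      rw [Subgroup.mem_bot.1 hx, one_mul, mul_one]
    obtain ⟨V, hVmin, hVle⟩ : ∃ V : Subgroup G, (V.Normal ∧ V ≠ ⊥ ∧ V ≤ P ∧
        IsElementaryAbelian p V) ∧ V ≤ P := by
      classical
      obtain ⟨V, ⟨hVn, hV0, hVP⟩, hmin⟩ := wellFounded_lt.has_min
        {V : Subgroup G | V.Normal ∧ V ≠ ⊥ ∧ V ≤ P} ⟨P, hPn, hne, le_rfl⟩
      have hVp : IsPGroup p V := hP.to_le hVP
      have : Group.IsNilpotent V := hVp.isNilpotent
      refine ⟨V, ⟨hVn, hV0, hVP, ?_⟩, hVP⟩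
      have hmin' : ∀ M : Subgroup G, M.Normal → M ≤ V → M = ⊥ ∨ M = V := by
        intro M hMn hMV
        by_cases hM : M = ⊥
        · exact Or.inl hM
        · exact Or.inr (hMV.eq_or_lt.resolve_right fun hlt =>
            hmin M ⟨hMn, hM, hMV.trans hVP⟩ hlt)
      have : V.Normal := hVn
      obtain ⟨hab, q, hq, -, hel'⟩ := Solvable.elementaryAbelian_of_minimal_normal V hV0 hmin'
      have hel : IsElementaryAbelian q V := ⟨hab, hel'⟩
      obtain ⟨v, hv, hv1⟩ := V.ne_bot_iff_exists_ne_one.1 hV0 |> fun ⟨v, hv⟩ =>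
        (⟨(v : G), v.2, fun h => hv (Subtype.ext h)⟩ : ∃ v : G, v ∈ V ∧ v ≠ 1)
      have := Fact.mk hq
      have ho := orderOf_eq_prime (hel.2 v hv) hv1
      obtain ⟨j, hj⟩ := IsPGroup.iff_orderOf.1 hVp ⟨v, hv⟩
      rw [Subgroup.orderOf_mk, ho] at hj
      have hqp : q = p :=
        (Nat.prime_dvd_prime_iff_eq hq Fact.out).1 (hq.dvd_of_dvd_pow (n := j) (by rw [← hj]))
      exact hqp ▸ hel
    obtain ⟨hVn, hV0, hVP, hVe⟩ := hVmin
    have hyV := mem_centralizer_of_pair_elementary hodd hp hVe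
      (fun v hv => ha v (hVP hv)) (fun v hv => hb v (hVP hv)) hy hcop
    set π := QuotientGroup.mk' V with hπ
    have : (P.map π).Normal := hPn.map π (QuotientGroup.mk'_surjective V)
    have hcard : Nat.card (P.map π) < n := by
      have h := Solvable.card_eq_card_map_mul π P
      rw [hπ, QuotientGroup.ker_mk', inf_eq_right.2 hVP] at h
      have h1 : 1 < Nat.card V :=
        Finite.one_lt_card_iff_nontrivial.2 ((Subgroup.nontrivial_iff_ne_bot V).2 hV0)
      have hpos : 0 < Nat.card (P.map π) := Nat.card_pos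
      rw [← hn, hπ, h]
      exact lt_mul_of_one_lt_right hpos h1
    have hquad : ∀ c : G, QuadOn c P → QuadOn (π c) (P.map π) := by
      rintro c hc _ ⟨v, hv, rfl⟩
      simpa using (hc v hv).map π
    have hy' : π y ∈ Subgroup.closure ({π a, π b} : Set (G ⧸ V)) := by
      rw [← Set.image_pair, ← MonoidHom.map_closure]; exact Subgroup.mem_map_of_mem π hy
    have hq := ih _ hcard (G := G ⧸ V)
      (hodd.of_dvd_nat (Subgroup.card_quotient_dvd_card V)) (P := P.map π) (hP.map π)
      (hquad a ha) (hquad b hb) hy' (hcop.coprime_dvd_left (orderOf_map_dvd π y)) rfl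
    refine Subgroup.mem_centralizer_iff.2 fun x hx => ?_
    set v := x⁻¹ * (y * x * y⁻¹) with hv
    have hvV : v ∈ V := by
      rw [← QuotientGroup.eq_one_iff, ← QuotientGroup.mk'_apply V v, hv]
      have := Subgroup.mem_centralizer_iff.1 hq (π x) (Subgroup.mem_map_of_mem π hx)
      simp only [map_mul, map_inv]
      rw [← hπ, ← this]
      group
    have hyv : Commute y v := (Subgroup.mem_centralizer_iff.1 hyV v hvV).symm
    have hrec : ∀ i : ℕ, y ^ i * x * (y ^ i)⁻¹ = x * v ^ i := by
      intro i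
      induction i with
      | zero => simp
      | succ i ihi =>
        calc y ^ (i + 1) * x * (y ^ (i + 1))⁻¹ = y * (y ^ i * x * (y ^ i)⁻¹) * y⁻¹ := by
              rw [pow_succ']; group
          _ = y * x * (v ^ i * y⁻¹) := by rw [ihi]; group
          _ = y * x * (y⁻¹ * v ^ i) := by rw [((hyv.pow_right i).inv_left).eq]
          _ = (x * v) * v ^ i := by rw [hv]; group
          _ = x * v ^ (i + 1) := by rw [pow_succ', mul_assoc]
    have h1 := hrec (orderOf y)
    rw [pow_orderOf_eq_one, one_mul, inv_one, mul_one, eq_comm, mul_eq_left] at h1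
    have h2 : orderOf v ∣ 1 := by
      rw [← hcop]
      exact Nat.dvd_gcd (orderOf_dvd_of_pow_eq_one h1) (orderOf_dvd_of_pow_eq_one (hVe.2 v hvV))
    have h3 : v = 1 := orderOf_eq_one_iff.1 (Nat.dvd_one.1 h2)
    have h4 := hrec 1
    rw [h3, one_pow, mul_one, pow_one, mul_inv_eq_iff_eq_mul] at h4
    exact h4.symm

theorem mem_pCore_quotient_centralizer [Finite G] (hodd : Odd (Nat.card G)) {p : ℕ} [Fact p.Prime]
    (hp : p ≠ 2) {P : Subgroup G} [P.Normal] (hP : IsPGroup p P) {a : G} (ha : QuadOn a P) :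
    (QuotientGroup.mk a : G ⧸ Subgroup.centralizer (P : Set G)) ∈
      pCore p (G ⧸ Subgroup.centralizer (P : Set G)) := by
  set C := Subgroup.centralizer (P : Set G)
  set π := QuotientGroup.mk' C
  have hpair : ∀ g : G ⧸ C, IsPGroup p ↥(Subgroup.closure ({π a, g * π a * g⁻¹} : Set (G ⧸ C))) := by
    intro g
    obtain ⟨g, rfl⟩ := QuotientGroup.mk'_surjective C g
    rw [← map_inv, ← map_mul, ← map_mul, ← Set.image_pair, ← MonoidHom.map_closure]
    intro z
    obtain ⟨y, hy, hyz⟩ := z.2
    set o := orderOf y with ho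
    refine ⟨o.factorization p, Subtype.ext ?_⟩
    rw [SubgroupClass.coe_pow, OneMemClass.coe_one, ← hyz, ← map_pow, QuotientGroup.mk'_apply,
      QuotientGroup.eq_one_iff]
    refine mem_centralizer_of_pair hodd hp hP ha (quadOn_conj (g := g) ha)
      (Subgroup.pow_mem _ hy _) ?_
    have hpow : p ^ o.factorization p ∣ o := Nat.ordProj_dvd o p
    rw [orderOf_pow_of_dvd (pow_ne_zero _ (Fact.out : p.Prime).ne_zero) hpow]
    exact (Nat.coprime_ordCompl Fact.out (orderOf_pos y).ne').symm
  have h := Involution.baer_suzuki_element (π a) hpair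
  exact Cores.le_pCore Subgroup.normalClosure_normal h
    (Subgroup.subset_normalClosure rfl)

theorem mem_pCore_normalizer_quotient [Finite G] (hodd : Odd (Nat.card G)) {p : ℕ} [Fact p.Prime]
    (hp : p ≠ 2) {P : Subgroup G} (hP : IsPGroup p P) {a : G}
    (haN : a ∈ Subgroup.normalizer (P : Set G)) (ha : QuadOn a P) :
    (QuotientGroup.mk (s := (Subgroup.centralizer (P : Set G)).subgroupOf
        (Subgroup.normalizer (P : Set G))) ⟨a, haN⟩) ∈
      pCore p (↥(Subgroup.normalizer (P : Set G)) ⧸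
        (Subgroup.centralizer (P : Set G)).subgroupOf (Subgroup.normalizer (P : Set G))) := by
  set N := Subgroup.normalizer (P : Set G)
  have hn : (P.subgroupOf N).Normal := Subgroup.normal_in_normalizer
  have heq : (Subgroup.centralizer (P : Set G)).subgroupOf N =
      Subgroup.centralizer ((P.subgroupOf N : Subgroup N) : Set N) := by
    ext u
    simp only [Subgroup.mem_subgroupOf, Subgroup.mem_centralizer_iff, SetLike.mem_coe]
    exact ⟨fun h v hv => Subtype.ext (h v hv),
      fun h v hv => congrArg Subtype.val (h ⟨v, Subgroup.le_normalizer hv⟩ hv)⟩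
  have h := mem_pCore_quotient_centralizer (G := N)
    (hodd.of_dvd_nat (Subgroup.card_subgroup_dvd_card N)) hp (P := P.subgroupOf N)
    (hP.comap_of_injective N.subtype N.subtype_injective) (a := ⟨a, haN⟩)
    (fun v hv => Subtype.ext (ha v hv))
  let e := QuotientGroup.quotientMulEquivOfEq heq
  have := Cores.pCore_map_mulEquiv e.symm p
  rw [← this]
  exact ⟨_, h, by rfl⟩

theorem isNormalizerPStable_of_odd [Finite G] (hodd : Odd (Nat.card G)) {p : ℕ} [Fact p.Prime]
    (hp : p ≠ 2) : IsNormalizerPStable p G := fun _ hP _ hg hq =>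
  mem_pCore_normalizer_quotient hodd hp hP hg (quadOn_of_commutator hq (Subgroup.mem_zpowers _))

end Cfsg.Agent.OddStable
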