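/-
Consequences of p-stability for solvable groups of odd order.

* `quadOn_of_abelian` : an element of an abelian subgroup normalized by `P` acts quadratically on `P`
* `comap_pCore_quotient_centralizer_le` : if `O_p'(G) = 1` and `O_p(G) ∩ C(P) ≤ P` then the
  preimage of `O_p(G/C(P))` lies in `O_p(G)`
* `le_pCore_of_abelian` : abelian subgroups normalized by such `P` lie in `O_p(G)`
-/
import Cfsg.Agent.Lib.OddStable.Quadratic
import Cfsg.Agent.Lib.Solvable.Fitting

set_option autoImplicit false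

namespace Cfsg.Agent.OddStable

open Cfsg

variable {G : Type*} [Group G]

theorem quadOn_of_abelian {P B : Subgroup G} (hB : IsMulCommutative B)
    (hN : P ≤ Subgroup.normalizer (B : Set G)) {a : G} (ha : a ∈ B) : QuadOn a P := by
  intro v hv
  have h : v * a⁻¹ * v⁻¹ ∈ B :=
    (Subgroup.mem_normalizer_iff.1 (hN hv) a⁻¹).1 (inv_mem ha)
  have hm : a * v * a⁻¹ * v⁻¹ ∈ B := by
    have := mul_mem ha h
    simpa [mul_assoc] using this
  exact congrArg Subtype.val (hB.is_comm.comm ⟨a, ha⟩ ⟨_, hm⟩)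

theorem mk_mem_pCore_of_abelian [Finite G] (hodd : Odd (Nat.card G)) {p : ℕ} [Fact p.Prime]
    (hp : p ≠ 2) {P B : Subgroup G} [P.Normal] (hP : IsPGroup p P) (hB : IsMulCommutative B)
    (hN : P ≤ Subgroup.normalizer (B : Set G)) {a : G} (ha : a ∈ B) :
    (QuotientGroup.mk a : G ⧸ Subgroup.centralizer (P : Set G)) ∈
      pCore p (G ⧸ Subgroup.centralizer (P : Set G)) :=
  mem_pCore_quotient_centralizer hodd hp hP (quadOn_of_abelian hB hN ha)

theorem isPGroup_centralizer [Finite G] [Group.IsSolvable G] {p : ℕ} [Fact p.Prime]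
    (hO : pPrimeCore p G = ⊥) {P : Subgroup G} [P.Normal]
    (hC : pCore p G ⊓ Subgroup.centralizer (P : Set G) ≤ P) :
    IsPGroup p ↥(Subgroup.centralizer (P : Set G)) := by
  set C := Subgroup.centralizer (P : Set G) with hCdef
  have h1 : pPrimeCore p ↥C = ⊥ := by
    rw [← (Subgroup.map_eq_bot_iff_of_injective _ C.subtype_injective),
      Cores.pPrimeCore_map_subtype, hO, bot_inf_eq]
  have h2 := Solvable.centralizer_pCore_le_of_isSolvable (G := ↥C) h1
  have h3 : (⊤ : Subgroup ↥C) ≤ pCore p ↥C := by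
    refine le_trans (fun c _ => ?_) h2
    refine Subgroup.mem_centralizer_iff.2 fun z hz => Subtype.ext ?_
    have hzP : (z : G) ∈ P := hC ((Cores.pCore_map_subtype C p).le ⟨z, hz, rfl⟩)
    exact Subgroup.mem_centralizer_iff.1 c.2 (z : G) hzP
  exact IsPGroup.of_injective
    ((Cores.isPGroup_pCore p ↥C).to_le h3) (Subgroup.topEquiv (G := ↥C)).symm.toMonoidHom
    (MulEquiv.injective _)

theorem comap_pCore_quotient_centralizer_le [Finite G] [Group.IsSolvable G] {p : ℕ}
    [Fact p.Prime] (hO : pPrimeCore p G = ⊥) {P : Subgroup G} [P.Normal]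
    (hC : pCore p G ⊓ Subgroup.centralizer (P : Set G) ≤ P) :
    (pCore p (G ⧸ Subgroup.centralizer (P : Set G))).comap
        (QuotientGroup.mk' (Subgroup.centralizer (P : Set G))) ≤ pCore p G :=
  Cores.comap_pCore_le _ (by rw [QuotientGroup.ker_mk']; exact isPGroup_centralizer hO hC)

theorem le_pCore_of_abelian [Finite G] [Group.IsSolvable G] (hodd : Odd (Nat.card G)) {p : ℕ}
    [Fact p.Prime] (hp : p ≠ 2) (hO : pPrimeCore p G = ⊥) {P B : Subgroup G} [P.Normal]
    (hP : IsPGroup p P) (hC : pCore p G ⊓ Subgroup.centralizer (P : Set G) ≤ P)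
    (hB : IsMulCommutative B) (hN : P ≤ Subgroup.normalizer (B : Set G)) : B ≤ pCore p G :=
  fun _ ha => comap_pCore_quotient_centralizer_le hO hC
    (mk_mem_pCore_of_abelian hodd hp hP hB hN ha)

end Cfsg.Agent.OddStable
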